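import Groth.Agent.Lib.Hens.Reduced
import Mathlib.RingTheory.Localization.BaseChange
import Mathlib.RingTheory.Flat.Basic

/-! # Reducedness of flat base changes of strict henselizations -/

set_option autoImplicit false
set_option linter.style.haveILetI false
set_option backward.isDefEq.respectTransparency false
universe u

open scoped TensorProduct

namespace Groth.Agent.HsRed6

open Groth.Agent.Hens

variable {A : Type u} [CommRing A] {κ : Type u} [Field κ] [Algebra A κ]
  (B : Type u) [CommRing B] [Algebra A B] [IsReduced B]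

theorem isReduced_tensor_stage (i : Nbhd A κ) : IsReduced (B ⊗[A] i.G) := by
  haveI : IsReduced (B ⊗[A] i.S) := isReduced_of_etale B (B ⊗[A] i.S)
  let μ : B ⊗[A] i.S →ₐ[B] B ⊗[A] i.G :=
    Algebra.TensorProduct.map (AlgHom.id B B) (IsScalarTower.toAlgHom A i.S i.G)
  letI : Algebra (B ⊗[A] i.S) (B ⊗[A] i.G) := μ.toRingHom.toAlgebra
  haveI : IsScalarTower B (B ⊗[A] i.S) (B ⊗[A] i.G) :=
    ⟨fun b s g => by show μ (b • s) * g = b • (μ s * g); rw [map_smul, smul_mul_assoc]⟩
  have h := IsLocalization.tensorProduct_tensorProduct_right (A := i.S) A B i.q.primeCompl i.G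
    (RingHom.ext fun s => by
      show μ (1 ⊗ₜ[A] s) = 1 ⊗ₜ[A] algebraMap i.S i.G s
      simp [μ])
  exact @isReduced_localizationPreserves (B ⊗[A] i.S) _ _ (B ⊗[A] i.G) _ _ h inferInstance

/-- The base change of a stage into the base change of the colimit. -/
noncomputable def toHsT (i : Nbhd A κ) : B ⊗[A] i.G →ₐ[A] B ⊗[A] Hs A κ :=
  Algebra.TensorProduct.map (AlgHom.id A B) (Hs.of i)

/-- The transition maps after base change. -/
noncomputable def mapT {i j : Nbhd A κ} (h : i ≤ j) : B ⊗[A] i.G →ₐ[A] B ⊗[A] j.G :=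
  Algebra.TensorProduct.map (AlgHom.id A B) (Nbhd.map h)

theorem toHsT_mapT {i j : Nbhd A κ} (h : i ≤ j) (z : B ⊗[A] i.G) : toHsT B j (mapT B h z) = toHsT B i z := by
  induction z using TensorProduct.induction_on with
  | zero => simp
  | tmul b g => simp [toHsT, mapT, Hs.of_map]
  | add x y hx hy => simp [hx, hy]

theorem exists_toHsT_eq (x : B ⊗[A] Hs A κ) : ∃ (i : Nbhd A κ) (z : B ⊗[A] i.G), toHsT B i z = x := by
  induction x using TensorProduct.induction_on with
  | zero => exact ⟨Classical.arbitrary _, 0, map_zero _⟩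
  | tmul b r =>
    obtain ⟨i, y, rfl⟩ := Hs.exists_of r
    exact ⟨i, b ⊗ₜ y, by simp [toHsT]⟩
  | add x y hx hy =>
    obtain ⟨i, a, rfl⟩ := hx
    obtain ⟨j, b, rfl⟩ := hy
    obtain ⟨m, hi, hj⟩ := exists_ge_ge i j
    exact ⟨m, mapT B hi a + mapT B hj b, by rw [map_add, toHsT_mapT, toHsT_mapT]⟩

theorem mapT_mapT {i p m : Nbhd A κ} (ha : i ≤ p) (hb : p ≤ m) (v : B ⊗[A] i.G) {h : i ≤ m} :
    mapT B hb (mapT B ha v) = mapT B h v := by
  induction v using TensorProduct.induction_on with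
  | zero => simp
  | tmul b g =>
    simp only [mapT, Algebra.TensorProduct.map_tmul]
    exact congrArg _ (DirectedSystem.map_map (f := fun i j h => ⇑(Nbhd.map (i := i) (j := j) h)) ha hb g)
  | add x y hx hy => simp [hx, hy]

variable [Module.Flat A B]


theorem ker_induction {N N'' : Type u} [CommRing N] [CommRing N''] [Algebra A N] [Algebra A N'']
    (φ : N →ₐ[A] N'') (P : B ⊗[A] N → Prop) (h0 : P 0) (h1 : ∀ b g, φ g = 0 → P (b ⊗ₜ g))
    (h2 : ∀ x y, P x → P y → P (x + y)) (z : B ⊗[A] N)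
    (ψ : B ⊗[A] N →+ B ⊗[A] N'') (hψ : ∀ b g, ψ (b ⊗ₜ g) = b ⊗ₜ φ g) (hz : ψ z = 0) : P z := by
  have hlin : ∀ v : B ⊗[A] N, φ.toLinearMap.lTensor B v = ψ v := by
    intro v
    induction v using TensorProduct.induction_on with
    | zero => simp
    | tmul b g => simp [hψ]
    | add x y hx hy => simp [hx, hy]
  obtain ⟨w, rfl⟩ :=
    (Module.Flat.lTensor_exact B (LinearMap.exact_subtype_ker_map φ.toLinearMap) z).1 ((hlin z).trans hz)
  clear hz hlin
  induction w using TensorProduct.induction_on with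
  | zero => simpa using h0
  | tmul b g => simpa using h1 b g g.2
  | add x y hx hy =>
    rw [map_add]
    exact h2 _ _ hx hy

theorem exists_mapT_eq_zero {i : Nbhd A κ} (z : B ⊗[A] i.G) (hz : toHsT B i z = 0) :
    ∃ (j : Nbhd A κ) (h : i ≤ j), mapT B h z = 0 := by
  have key := ker_induction (A := A) (N := i.G) (N'' := Hs A κ) B (Hs.of i)
  refine key (fun v => ∃ (j : Nbhd A κ) (h : i ≤ j), mapT B h v = 0)
    ⟨i, le_refl _, map_zero _⟩ (fun b g hg => ?_) (fun x y hx hy => ?_) z (toHsT B i).toAddMonoidHom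
    (fun b g => by simp [toHsT]) (by exact hz)
  · obtain ⟨j, h1, _, h3⟩ := Hs.of_eq_of_iff.1 (hg.trans (map_zero (Hs.of i)).symm)
    refine ⟨j, h1, ?_⟩
    rw [mapT, Algebra.TensorProduct.map_tmul, h3, map_zero, TensorProduct.tmul_zero]
  · obtain ⟨j, h1, h1'⟩ := hx
    obtain ⟨l, h2, h2'⟩ := hy
    obtain ⟨m, hj, hl⟩ := exists_ge_ge j l
    exact ⟨m, h1.trans hj, by
      rw [map_add, ← mapT_mapT B h1 hj, h1', map_zero, zero_add,
        ← mapT_mapT B h2 hl (h := h1.trans hj), h2', map_zero]⟩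

theorem isReduced_tensor_hs : IsReduced (B ⊗[A] Hs A κ) := by
  refine ⟨fun x ⟨n, hn⟩ => ?_⟩
  obtain ⟨i, z, rfl⟩ := exists_toHsT_eq B x
  obtain ⟨j, h, hj⟩ := exists_mapT_eq_zero B (z ^ n) (by rw [map_pow]; exact hn)
  rw [map_pow] at hj
  haveI := isReduced_tensor_stage B j
  rw [← toHsT_mapT B h, IsNilpotent.eq_zero ⟨n, hj⟩, map_zero]

end Groth.Agent.HsRed6
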